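import Cfsg.Agent.H85.ExcDef
import Cfsg.Agent.H316.U3

/-!
# S2188-X6, ends (helper112): `balIn_of_SS`

`v` centralises the commutators `[c, y]`, `c ∈ C(x)`, `x ∈ E#`, `y ∈ E`; the group generated by them is normalised by all
the root groups `z⁻¹ X_γ z`.
-/

set_option autoImplicit false
set_option linter.unusedSectionVars false

namespace Cfsg.Agent.H112.Bal

open CoxeterSystem Cfsg Cfsg.Lie Cfsg.Lie.ChevalleyDatum
open Cfsg.Agent.ChevalleyStructure Cfsg.Agent.ChevalleyStructure.Elts Cfsg.Agent.ChevalleyStructure.CoxeterGeom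
  Cfsg.Agent.ChevalleyStructure.CoxeterGeomTypes Cfsg.Agent.ChevalleyStructure.NPerm
open Cfsg.Agent.Tits.Roots Cfsg.Agent.Tits.Core Cfsg.Agent.Nodes Cfsg.Agent.Nodes.Reps Cfsg.Agent.Nodes.BNOf
  Cfsg.Agent.Nodes.RGDChev Cfsg.Agent.Nodes.Bruhat Cfsg.Agent.Nodes.NormalForm
open Cfsg.Agent.KFacts.RgdField Cfsg.Agent.KFacts.RgdChevCoord
open Cfsg.Agent.BpExc Cfsg.Agent.BpExc.TorCent Cfsg.Agent.BpExc.TorChev Cfsg.Agent.BpExc.Tow
  Cfsg.Agent.BpExc.TowChev Cfsg.Agent.BpExc.Fr Cfsg.Agent.BpExc.Pair Cfsg.Agent.BpExc.LangFr Cfsg.Agent.GpExc.Field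
  Cfsg.Agent.BpExc.NInst Cfsg.Agent.BpExc.NChev Cfsg.Agent.BpExc.Asm Cfsg.Agent.H469.Exc Cfsg.Agent.H85.Exc

universe u v

/-- The centre of a non-commutative simple group. -/
theorem center_bot {G : Type u} [Group G] (h1 : IsSimpleGroup G) (h2 : ¬ IsMulCommutative G) {v : G}
    (hv : ∀ x : G, v * x = x * v) : v = 1 := by
  have hn : (Subgroup.center G).Normal := inferInstance
  rcases hn.eq_bot_or_eq_top with h | h
  · have : v ∈ Subgroup.center G := Subgroup.mem_center_iff.2 fun x => (hv x).symm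
    rwa [h, Subgroup.mem_bot] at this
  · exfalso
    apply h2
    refine ⟨⟨fun a b => ?_⟩⟩
    have : b ∈ Subgroup.center G := by rw [h]; exact Subgroup.mem_top b
    exact Subgroup.mem_center_iff.1 this a

variable {D : ChevalleyDatum} {l : ℕ} {M : CoxeterMatrix (Fin l)} (hp : IsType D l M) {k : Type u} [Field k]
  {W : Type v} [Group W] (cs : CoxeterSystem M W)

include hp cs in
/-- The group theoretic core: `v` centralises the commutators `[c, y]`, `c ∈ C(x)`, `x ∈ E#`, `y ∈ E`. -/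
theorem core (hk : LocFin k) {r : ℕ} [Fact r.Prime] [CharP k r] (hs : IsSimpleGroup ↥(D.group k))
    (hna : ¬ IsMulCommutative ↥(D.group k)) {p : ℕ} (hpp : p.Prime) {E : Subgroup ↥(D.group k)}
    (hEp : ∀ a ∈ E, a ^ p = 1) (hEc : ∀ a ∈ E, ∀ b ∈ E, a * b = b * a) (hE : Nat.card ↥E = p ^ 2)
    {z : ↥(D.group k)} (hz : ∀ a ∈ E, z * a * z⁻¹ ∈ TT D k) {v : ↥(D.group k)}
    (hv : ∀ x ∈ E, x ≠ 1 → ∀ y ∈ E, ∀ c : ↥(D.group k), c * x = x * c →
      v * (c * y * c⁻¹ * y⁻¹) = (c * y * c⁻¹ * y⁻¹) * v) : v = 1 := by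
  have C := coordsL (k := k) hp cs hk r
  set N : Subgroup ↥(D.group k) := Subgroup.closure
    {g | ∃ x ∈ E, x ≠ 1 ∧ ∃ y ∈ E, ∃ c : ↥(D.group k), c * x = x * c ∧ g = c * y * c⁻¹ * y⁻¹} with hN
  have hNv : ∀ g ∈ N, v * g = g * v := by
    intro g hg
    have h1 : N ≤ Subgroup.centralizer {v} := by
      rw [hN, Subgroup.closure_le]
      rintro _ ⟨x, hx, hx1, y, hy, c, hc, rfl⟩
      rw [SetLike.mem_coe, Subgroup.mem_centralizer_singleton_iff]
      exact (hv x hx hx1 y hy c hc).symm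
    exact (Subgroup.mem_centralizer_singleton_iff.1 (h1 hg)).symm
  -- the root groups
  have hroot : ∀ γ, IsRoot cs hp.isCartan γ → ∀ u ∈ XX D l k γ,
      (z⁻¹ * u * z ∈ N) ∨ (∀ y ∈ E, (z⁻¹ * u * z) * y = y * (z⁻¹ * u * z)) := by
    intro γ hγ u hu
    obtain ⟨s, rfl⟩ := ((C.coord γ hγ).mem u).1 hu
    have hact : ∀ y ∈ E, ∀ a, z * y * z⁻¹ * xc hp γ a * (z * y * z⁻¹)⁻¹ = xc hp γ (ch hp γ (z * y * z⁻¹) * a) :=
      fun y hy a => (C.coord γ hγ).act _ (hz y hy) a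
    by_cases hall : ∀ y ∈ E, ch hp γ (z * y * z⁻¹) = 1
    · right
      intro y hy
      have h1 := hact y hy s
      rw [hall y hy, one_mul] at h1
      have h2 : z * y * z⁻¹ * xc hp γ s = xc hp γ s * (z * y * z⁻¹) := by
        rw [← mul_inv_eq_iff_eq_mul]; exact h1
      have h3 : y * (z⁻¹ * xc hp γ s * z) = z⁻¹ * (z * y * z⁻¹ * xc hp γ s) * z := by group
      rw [h3, h2]; group
    · left
      push Not at hall
      obtain ⟨y, hy, hyγ⟩ := hall
      obtain ⟨x, hx, hx1, hxγ⟩ := H316.U3.exists_ker hp cs hk (r := r) hpp hEp hE hz hγ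
      set χ : k := ch hp γ (z * y * z⁻¹) with hχ
      have hχ1 : 1 - χ ≠ 0 := fun h => hyγ (sub_eq_zero.1 h).symm
      set w : ↥(D.group k) := xc hp γ (s / (1 - χ)) with hw
      have hcx : (z⁻¹ * w * z) * x = x * (z⁻¹ * w * z) := by
        have h1 := hact x hx (s / (1 - χ))
        rw [hxγ.2, one_mul, ← hw] at h1
        have h2 : z * x * z⁻¹ * w = w * (z * x * z⁻¹) := by
          rw [← mul_inv_eq_iff_eq_mul]; exact h1
        have h3 : x * (z⁻¹ * w * z) = z⁻¹ * (z * x * z⁻¹ * w) * z := by group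
        rw [h3, h2]; group
      refine Subgroup.subset_closure ⟨x, hx, hx1, y, hy, z⁻¹ * w * z, hcx, ?_⟩
      have h4 : z⁻¹ * w * z * y * (z⁻¹ * w * z)⁻¹ * y⁻¹ =
          z⁻¹ * (w * (z * y * z⁻¹ * w⁻¹ * (z * y * z⁻¹)⁻¹)) * z := by group
      have h5 : w⁻¹ = xc hp γ (-(s / (1 - χ))) := by
        rw [inv_eq_iff_mul_eq_one, hw, ← (C.coord γ hγ).add, add_neg_cancel, (C.coord γ hγ).zero]
      rw [h4, h5, hact y hy, hw, ← (C.coord γ hγ).add, ← hχ]
      congr 3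
      field_simp
      ring
  have hnorm : ∀ γ, IsRoot cs hp.isCartan γ → ∀ u ∈ XX D l k γ, ∀ g ∈ N, (z⁻¹ * u * z) * g * (z⁻¹ * u * z)⁻¹ ∈ N := by
    intro γ hγ u hu g hg
    rcases hroot γ hγ u hu with h | h
    · exact mul_mem (mul_mem h hg) (inv_mem h)
    · set b := z⁻¹ * u * z with hb
      have h1 : N ≤ N.comap (MulAut.conj b).toMonoidHom := by
        conv_lhs => rw [hN]
        rw [Subgroup.closure_le]
        rintro _ ⟨x, hx, hx1, y, hy, c, hc, rfl⟩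
        refine Subgroup.subset_closure ⟨x, hx, hx1, y, hy, b * c * b⁻¹, ?_, ?_⟩
        · have hbx : b⁻¹ * x = x * b⁻¹ := by
            rw [inv_mul_eq_iff_eq_mul, ← mul_assoc, h x hx, mul_inv_cancel_right]
          calc b * c * b⁻¹ * x = b * c * (b⁻¹ * x) := by group
            _ = b * (c * x) * b⁻¹ := by rw [hbx]; group
            _ = (b * x) * c * b⁻¹ := by rw [hc]; group
            _ = _ := by rw [h x hx]; group
        · show b * (c * y * c⁻¹ * y⁻¹) * b⁻¹ = _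
          have hby : y * b = b * y := (h y hy).symm
          have hby' : b⁻¹ * y = y * b⁻¹ := by
            rw [inv_mul_eq_iff_eq_mul, ← mul_assoc, h y hy, mul_inv_cancel_right]
          have hby2 : y⁻¹ * b⁻¹ = b⁻¹ * y⁻¹ := by
            rw [← mul_inv_rev, ← mul_inv_rev, h y hy]
          calc b * (c * y * c⁻¹ * y⁻¹) * b⁻¹ = b * c * y * c⁻¹ * (y⁻¹ * b⁻¹) := by group
            _ = b * c * y * c⁻¹ * b⁻¹ * y⁻¹ := by rw [hby2]; group
            _ = b * c * (b⁻¹ * (b * y)) * c⁻¹ * b⁻¹ * y⁻¹ := by group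
            _ = b * c * (b⁻¹ * (y * b)) * c⁻¹ * b⁻¹ * y⁻¹ := by rw [hby]
            _ = b * c * b⁻¹ * y * (b * c * b⁻¹)⁻¹ * y⁻¹ := by group
      exact h1 hg
  -- the root groups generate
  have hgen : (⊤ : Subgroup ↥(D.group k)) ≤ RGD.Sup (XX D l k) {a | IsRoot cs hp.isCartan a} := by
    rw [← G1_eq_top (K := k) hp cs]
    exact le_rfl
  have hgen' : ∀ P : Subgroup ↥(D.group k), (∀ γ, IsRoot cs hp.isCartan γ → ∀ u ∈ XX D l k γ, z⁻¹ * u * z ∈ P) →
      ∀ g, g ∈ P := by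
    intro P hP g
    have h1 : RGD.Sup (XX D l k) {a | IsRoot cs hp.isCartan a} ≤ P.comap (MulAut.conj z⁻¹).toMonoidHom := by
      refine RGD.Sup_le fun γ hγ u hu => ?_
      have := hP γ hγ u hu
      show z⁻¹ * u * z⁻¹⁻¹ ∈ P
      rwa [inv_inv]
    have h2 := h1 (hgen (Subgroup.mem_top (z * g * z⁻¹)))
    have h3 : z⁻¹ * (z * g * z⁻¹) * z⁻¹⁻¹ ∈ P := h2
    have e1 : z⁻¹ * (z * g * z⁻¹) * z⁻¹⁻¹ = g := by group
    rwa [e1] at h3
  have hNn : N.Normal := by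
    refine ⟨fun g hg b => ?_⟩
    have h1 : b ∈ Subgroup.normalizer (N : Set ↥(D.group k)) := by
      refine hgen' _ (fun γ hγ u hu => ?_) b
      rw [Subgroup.mem_normalizer_iff]
      intro g
      constructor
      · exact hnorm γ hγ u hu g
      · intro h2
        have h3 := hnorm γ hγ u⁻¹ (inv_mem hu) _ h2
        have e1 : z⁻¹ * u⁻¹ * z * (z⁻¹ * u * z * g * (z⁻¹ * u * z)⁻¹) * (z⁻¹ * u⁻¹ * z)⁻¹ = g := by group
        rwa [e1] at h3
    exact (Subgroup.mem_normalizer_iff.1 h1 g).1 hg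
  rcases hNn.eq_bot_or_eq_top with h | h
  · exfalso
    -- `E` is central
    have hcen : ∀ y ∈ E, y = 1 := by
      intro y hy
      refine center_bot hs hna fun x => ?_
      have h1 : x ∈ Subgroup.centralizer {y} := by
        refine hgen' _ (fun γ hγ u hu => ?_) x
        rw [Subgroup.mem_centralizer_singleton_iff]
        rcases hroot γ hγ u hu with h2 | h2
        · rw [h, Subgroup.mem_bot] at h2
          rw [h2, one_mul, mul_one]
        · exact h2 y hy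
      exact (Subgroup.mem_centralizer_singleton_iff.1 h1).symm
    have h1 : E = ⊥ := by
      rw [eq_bot_iff]
      intro y hy
      exact Subgroup.mem_bot.2 (hcen y hy)
    rw [h1, Subgroup.card_bot] at hE
    have h2 := hpp.two_le
    nlinarith
  · refine center_bot hs hna fun x => ?_
    refine hNv x ?_
    rw [h]; exact Subgroup.mem_top x

/-- **(SS) gives the conclusion.** -/
theorem balIn_of_SS (hk : LocFin k) {r : ℕ} [Fact r.Prime] [CharP k r] (hs : IsSimpleGroup ↥(D.group k))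
    (hna : ¬ IsMulCommutative ↥(D.group k)) {p : ℕ} (hpp : p.Prime) (hSS : SS hp cs k r p)
    (htor : ∀ E : Subgroup ↥(D.group k), (∀ x ∈ E, x ^ p = 1) → (∀ x ∈ E, ∀ y ∈ E, x * y = y * x) →
      Nat.card ↥E = p ^ 2 → ∃ z : ↥(D.group k), ∀ x ∈ E, z * x * z⁻¹ ∈ TT D k) : BalIn hp cs k r p := by
  intro σ g e he hσ Fσ hfin E hEσ hEp hEc hE v hv
  obtain ⟨z, hz⟩ := htor E hEp hEc hE
  exact core hp cs hk hs hna hpp hEp hEc hE hz fun x hx hx1 y hy c hc =>
    hSS σ g e he hσ Fσ hfin x y z (hEσ x hx) (hEσ y hy) (hEp x hx) (hEp y hy) (hz x hx) (hz y hy) v (hv x hx hx1) c hc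

end Cfsg.Agent.H112.Bal
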