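import Cfsg.Agent.H85.ExcDef

/-!
# S2188-X6, ends (helper112): `balIn_three`

`3 v = Σ_C N_C v - N_E v`, `C` the four subgroups of order 3 of `E`.
-/

set_option autoImplicit false
set_option linter.unusedSectionVars false

namespace Cfsg.Agent.H112.Bal

open CoxeterSystem Cfsg Cfsg.Lie Cfsg.Lie.ChevalleyDatum
open Cfsg.Agent.ChevalleyStructure Cfsg.Agent.ChevalleyStructure.Elts Cfsg.Agent.ChevalleyStructure.CoxeterGeom
  Cfsg.Agent.ChevalleyStructure.CoxeterGeomTypes Cfsg.Agent.ChevalleyStructure.NPerm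
open Cfsg.Agent.Tits.Roots Cfsg.Agent.Tits.Core Cfsg.Agent.Nodes Cfsg.Agent.Nodes.Reps Cfsg.Agent.Nodes.BNOf
  Cfsg.Agent.Nodes.RGDChev
open Cfsg.Agent.KFacts.RgdField Cfsg.Agent.KFacts.RgdChevCoord
open Cfsg.Agent.BpExc Cfsg.Agent.BpExc.TorCent Cfsg.Agent.BpExc.Tow
  Cfsg.Agent.BpExc.TowChev Cfsg.Agent.BpExc.Fr Cfsg.Agent.BpExc.Pair Cfsg.Agent.BpExc.LangFr Cfsg.Agent.H85.Exc

universe u v w

/-- The linear algebra: `V` fixes the fixed vectors of `X`, `Y`, `X Y`, `X Y²`. -/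
theorem eq_one_of_three {ι : Type w} [Fintype ι] [DecidableEq ι] {k : Type u} [Field k] (h3 : (3 : k) ≠ 0)
    {X Y V : Matrix ι ι k} (hX : X * X * X = 1) (hY : Y * Y * Y = 1) (hXY : X * Y = Y * X)
    (h : ∀ A : Matrix ι ι k, (A = X ∨ A = Y ∨ A = X * Y ∨ A = X * Y * Y) → ∀ B : Matrix ι ι k, A * B = B → V * B = B) :
    V = 1 := by
  have hYX : Y * X = X * Y := hXY.symm
  have e1 : V * (1 + X + X * X) = 1 + X + X * X := by
    refine h X (Or.inl rfl) _ ?_
    rw [mul_add, mul_add, mul_one, ← mul_assoc, hX]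
    abel
  have e2 : V * (1 + Y + Y * Y) = 1 + Y + Y * Y := by
    refine h Y (Or.inr (Or.inl rfl)) _ ?_
    rw [mul_add, mul_add, mul_one, ← mul_assoc, hY]
    abel
  have hYX' : ∀ A : Matrix ι ι k, Y * (X * A) = X * (Y * A) := fun A => by rw [← mul_assoc, hYX, mul_assoc]
  have hX1 : X * (X * X) = 1 := by rw [← mul_assoc, hX]
  have hY1 : Y * (Y * Y) = 1 := by rw [← mul_assoc, hY]
  have hX' : ∀ A : Matrix ι ι k, X * (X * (X * A)) = A := fun A => by
    rw [← mul_assoc, ← mul_assoc, hX, one_mul]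
  have hY' : ∀ A : Matrix ι ι k, Y * (Y * (Y * A)) = A := fun A => by
    rw [← mul_assoc, ← mul_assoc, hY, one_mul]
  have c1 : X * Y * (X * Y) * (X * Y) = 1 := by
    simp only [mul_assoc, hYX', hX', hY1]
  have c2 : X * Y * Y * (X * Y * Y) * (X * Y * Y) = 1 := by
    simp only [mul_assoc, hYX', hX', hY1, one_mul]
  have e3 : V * (1 + X * Y + X * Y * (X * Y)) = 1 + X * Y + X * Y * (X * Y) := by
    refine h (X * Y) (Or.inr (Or.inr (Or.inl rfl))) _ ?_
    rw [mul_add, mul_add, mul_one, ← mul_assoc (X * Y) (X * Y) (X * Y), c1]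
    abel
  have e4 : V * (1 + X * Y * Y + X * Y * Y * (X * Y * Y)) = 1 + X * Y * Y + X * Y * Y * (X * Y * Y) := by
    refine h (X * Y * Y) (Or.inr (Or.inr (Or.inr rfl))) _ ?_
    rw [mul_add, mul_add, mul_one, ← mul_assoc (X * Y * Y) (X * Y * Y) (X * Y * Y), c2]
    abel
  have e5 : V * ((1 + X + X * X) * (1 + Y + Y * Y)) = (1 + X + X * X) * (1 + Y + Y * Y) := by
    rw [← mul_assoc, e1]
  have key : (1 + X + X * X) + (1 + Y + Y * Y) + (1 + X * Y + X * Y * (X * Y)) +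
      (1 + X * Y * Y + X * Y * Y * (X * Y * Y)) - (1 + X + X * X) * (1 + Y + Y * Y) = (3 : k) • (1 : Matrix ι ι k) := by
    have a1 : X * Y * (X * Y) = X * X * (Y * Y) := by
      simp only [mul_assoc, hYX']
    have a2 : X * Y * Y * (X * Y * Y) = X * X * Y := by
      simp only [mul_assoc, hYX', hYX, hY1, mul_one]
    have a3 : (3 : k) • (1 : Matrix ι ι k) = 1 + 1 + 1 := by
      rw [show (3 : k) = 1 + 1 + 1 by norm_num, add_smul, add_smul, one_smul]
    rw [a1, a2, a3]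
    noncomm_ring
  have e6 : V * ((3 : k) • (1 : Matrix ι ι k)) = (3 : k) • (1 : Matrix ι ι k) := by
    rw [← key, mul_sub, mul_add, mul_add, mul_add, e1, e2, e3, e4, e5]
  rw [mul_smul_comm, mul_one] at e6
  exact smul_right_injective _ h3 e6

/-- generators of an elementary abelian group of order 9 -/
theorem exists_gens {G : Type u} [Group G] {E : Subgroup G} (hE3 : ∀ x ∈ E, x ^ 3 = 1) (hE : Nat.card ↥E = 3 ^ 2) :
    ∃ x ∈ E, ∃ y ∈ E, x ≠ 1 ∧ y ≠ 1 ∧ x * y ≠ 1 ∧ x * y * y ≠ 1 := by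
  have hfin : Finite ↥E := Nat.finite_of_card_ne_zero (by rw [hE]; norm_num)
  have h1 : E ≠ ⊥ := by
    rintro rfl
    rw [Subgroup.card_bot] at hE
    norm_num at hE
  obtain ⟨x, hx, hx1⟩ : ∃ x ∈ E, x ≠ 1 := by
    obtain ⟨a, ha⟩ := Subgroup.ne_bot_iff_exists_ne_one.1 h1
    exact ⟨a.1, a.2, fun h => ha (Subtype.ext h)⟩
  have h2 : ¬ E ≤ Subgroup.zpowers x := by
    intro hle
    have h3 : Nat.card ↥E ∣ Nat.card ↥(Subgroup.zpowers x) := Subgroup.card_dvd_of_le hle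
    rw [Nat.card_zpowers, hE] at h3
    have h4 : orderOf x ∣ 3 := orderOf_dvd_of_pow_eq_one (hE3 x hx)
    have h5 := h3.trans h4
    norm_num at h5
  obtain ⟨y, hy, hyx⟩ := SetLike.not_le_iff_exists.1 h2
  have hz : ∀ n : ℤ, y ≠ x ^ n := fun n h => hyx ⟨n, h.symm⟩
  refine ⟨x, hx, y, hy, hx1, ?_, ?_, ?_⟩
  · rintro rfl
    exact hyx (one_mem _)
  · intro h
    refine hz (-1) ?_
    rw [zpow_neg_one]
    exact (inv_eq_of_mul_eq_one_right h).symm
  · intro h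
    refine hz 1 ?_
    rw [zpow_one]
    have h6 : y ^ 3 = 1 := hE3 y hy
    have h7 : x * y * y = y * y * y := by
      rw [h, ← h6, pow_succ, pow_two]
    have h8 : x * (y * y) = y * (y * y) := by rw [← mul_assoc, ← mul_assoc, h7]
    exact (mul_right_cancel h8).symm

variable {D : ChevalleyDatum} {l : ℕ} {M : CoxeterMatrix (Fin l)} (hp : IsType D l M)
  {W : Type v} [Group W] (cs : CoxeterSystem M W) {k : Type u} [Field k] {r : ℕ} [Fact r.Prime] [CharP k r]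

/-- **(S3) gives the conclusion for `p = 3`.** -/
theorem balIn_three (h3 : (3 : k) ≠ 0) (hS3 : S3 hp cs k r)
    (htor : ∀ x : ↥(D.group k), x ^ 3 = 1 → ∃ z : ↥(D.group k), z * x * z⁻¹ ∈ TT D k) : BalIn hp cs k r 3 := by
  intro σ g e he hσ Fσ hfin E hEσ hEp hEc hE v hv
  obtain ⟨x, hx, y, hy, hx1, hy1, hxy, hxyy⟩ := exists_gens hEp hE
  have key : ∀ a ∈ E, a ≠ 1 → ∀ B : Matrix D.Idx D.Idx k, ((a : GL D.Idx k) : Matrix D.Idx D.Idx k) * B = B →
      ((v : GL D.Idx k) : Matrix D.Idx D.Idx k) * B = B := by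
    intro a ha ha1 B hB
    obtain ⟨z, hz⟩ := htor a (hEp a ha)
    have h1 := hS3 σ g e he hσ Fσ hfin a z (hEσ a ha) (hEp a ha) hz v (hv a ha ha1)
    apply Matrix.ext_of_mulVec_single
    intro i
    rw [← Matrix.mulVec_mulVec]
    refine h1 _ ?_
    rw [Matrix.mulVec_mulVec, hB]
  have hm : ∀ a b : ↥(D.group k), ((a * b : ↥(D.group k)) : GL D.Idx k).1 = (a : GL D.Idx k).1 * (b : GL D.Idx k).1 :=
    fun a b => rfl
  have hcube : ∀ a ∈ E, (a : GL D.Idx k).1 * (a : GL D.Idx k).1 * (a : GL D.Idx k).1 = 1 := by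
    intro a ha
    have h1 := hEp a ha
    rw [pow_succ, pow_two] at h1
    rw [← hm, ← hm, h1]
    rfl
  have hV : ((v : GL D.Idx k) : Matrix D.Idx D.Idx k) = 1 := by
    refine eq_one_of_three h3 (X := (x : GL D.Idx k).1) (Y := (y : GL D.Idx k).1) (hcube x hx) (hcube y hy) ?_ ?_
    · rw [← hm, ← hm, hEc x hx y hy]
    · rintro A (rfl | rfl | rfl | rfl) B hB
      · exact key x hx hx1 B hB
      · exact key y hy hy1 B hB
      · rw [← hm] at hB
        exact key _ (mul_mem hx hy) hxy B hB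
      · rw [← hm, ← hm] at hB
        exact key _ (mul_mem (mul_mem hx hy) hy) hxyy B hB
  apply Subtype.ext
  apply Units.ext
  exact hV

end Cfsg.Agent.H112.Bal
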